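import Groth.Agent.Comodule.HilbertFG
import Groth.Agent.Comodule.Antipode
import Groth.Prelude.Def_ComodTens

/-!
# An algebra with an action of a linearly reductive group is of finite type over its invariants

`A` is the algebra of invariants of `A ⊗ H` under the diagonal action.
-/

set_option autoImplicit false
set_option backward.isDefEq.respectTransparency false
universe u v w

open TensorProduct WithConv

noncomputable section

namespace Groth.Agent.LunaFTLib

variable {k : Type u} [Field k] {H : Type v} [CommRing H] [HopfAlgebra k H]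
  {A : Type w} [CommRing A] [Algebra k A] [HopfRep.Comod k H A] [GLin.IsCoactAlg k H A]

local notation "ι₁" => (Algebra.TensorProduct.includeLeft : H →ₐ[k] H ⊗[k] H)
local notation "ι₂" => (Algebra.TensorProduct.includeRight : H →ₐ[k] H ⊗[k] H)

variable (k H A) in
/-- The diagonal coaction as an algebra map. -/
def diag : A ⊗[k] H →ₐ[k] (A ⊗[k] H) ⊗[k] H :=
  Algebra.TensorProduct.lift
    ((Algebra.TensorProduct.map Algebra.TensorProduct.includeLeft (AlgHom.id k H)).comp (GLin.coactAlgHom k H A))
    ((Algebra.TensorProduct.map Algebra.TensorProduct.includeRight (AlgHom.id k H)).comp (Bialgebra.comulAlgHom k H))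
    fun _ _ => Commute.all _ _

theorem coact_tensor_eq (x : A ⊗[k] H) :
    (ComodTens.Comod.tensor (inferInstanceAs (HopfRep.Comod k H A)) (HopfRep.Comod.regular (k := k) (A := H))).coact x =
      diag k H A x := by
  induction x with
  | zero => simp
  | add p q hp hq => simp only [map_add, hp, hq]
  | tmul a h =>
    rw [ComodTens.tensor_coact_tmul]
    simp only [diag, Algebra.TensorProduct.lift_tmul, AlgHom.comp_apply, GLin.coactAlgHom_apply,
      Bialgebra.comulAlgHom_apply]
    show _ = _ * Algebra.TensorProduct.map _ _ (Coalgebra.comul (R := k) h)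
    change TensorProduct.map LinearMap.id (LinearMap.mul' k H)
        (AlgebraTensorModule.tensorTensorTensorComm k k k k A H H H
          (HopfRep.Comod.coact (k := k) (A := H) a ⊗ₜ[k] Coalgebra.comul (R := k) h)) = _
    generalize HopfRep.Comod.coact (k := k) (A := H) a = p
    generalize Coalgebra.comul (R := k) h = q
    induction p with
    | zero => simp
    | add p p' hp hp' => simp only [TensorProduct.add_tmul, map_add, add_mul, hp, hp']
    | tmul a b =>
      induction q with
      | zero => simp
      | add q q' hq hq' => simp only [TensorProduct.tmul_add, map_add, mul_add, hq, hq']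
      | tmul c d => simp

theorem mul_comul_antipode (h : H) :
    Algebra.TensorProduct.lmul' k (Algebra.TensorProduct.map ι₂
      ((Bialgebra.comulAlgHom k H).comp (HopfAlgebra.antipodeAlgHom k H)) (Coalgebra.comul (R := k) h)) =
      HopfAlgebra.antipode k h ⊗ₜ[k] (1 : H) := by
  have h1 : toConv ((Bialgebra.comulAlgHom k H).comp (HopfAlgebra.antipodeAlgHom k H)) =
      (toConv (Bialgebra.comulAlgHom k H))⁻¹ := rfl
  have h2 : toConv ι₂ * toConv ((Bialgebra.comulAlgHom k H).comp (HopfAlgebra.antipodeAlgHom k H)) =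
      toConv ((ι₁).comp (HopfAlgebra.antipodeAlgHom k H)) := by
    rw [h1, Comodule.comulAlgHom_eq_mul]
    exact (congrArg (fun t => toConv ι₂ * t) (mul_inv_rev (toConv ι₁) (toConv ι₂))).trans (mul_inv_cancel_left _ _)
  have h3 := congrArg (fun f => f.ofConv h) h2
  simp only [ofConv_toConv, AlgHom.comp_apply] at h3
  rw [Comodule.lmul'_comp_map_incl] at h3
  exact h3

variable (k H A) in
/-- The twisted coaction. -/
def tw : A →ₐ[k] A ⊗[k] H :=
  (Algebra.TensorProduct.map (AlgHom.id k A) (HopfAlgebra.antipodeAlgHom k H)).comp (GLin.coactAlgHom k H A)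

theorem diag_tw (a : A) : diag k H A (tw k H A a) = tw k H A a ⊗ₜ[k] (1 : H) := by
  let inA : A →ₐ[k] (A ⊗[k] H) ⊗[k] H :=
    Algebra.TensorProduct.includeLeft.comp Algebra.TensorProduct.includeLeft
  let j : H ⊗[k] H →ₐ[k] (A ⊗[k] H) ⊗[k] H :=
    Algebra.TensorProduct.map Algebra.TensorProduct.includeRight (AlgHom.id k H)
  let K : A ⊗[k] (H ⊗[k] H) →ₐ[k] (A ⊗[k] H) ⊗[k] H :=
    Algebra.TensorProduct.lift inA (j.comp ((Algebra.TensorProduct.lmul' k).comp (Algebra.TensorProduct.map ι₂
      ((Bialgebra.comulAlgHom k H).comp (HopfAlgebra.antipodeAlgHom k H))))) fun _ _ => Commute.all _ _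
  have hF : ∀ x : A ⊗[k] H, diag k H A (Algebra.TensorProduct.map (AlgHom.id k A)
      (HopfAlgebra.antipodeAlgHom k H) x) =
      K (TensorProduct.assoc k A H H ((HopfRep.Comod.coact (k := k) (A := H)).rTensor H x)) := by
    intro x
    induction x with
    | zero => simp
    | add p q hp hq => simp only [map_add, hp, hq]
    | tmul b c =>
      simp only [Algebra.TensorProduct.map_tmul, AlgHom.id_apply, diag, Algebra.TensorProduct.lift_tmul,
        AlgHom.comp_apply, GLin.coactAlgHom_apply, LinearMap.rTensor_tmul]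
      generalize HopfRep.Comod.coact (k := k) (A := H) b = p
      induction p with
      | zero => simp
      | add p q hp hq => simp only [map_add, TensorProduct.add_tmul, add_mul, hp, hq]
      | tmul e f =>
        simp only [TensorProduct.assoc_tmul, K, inA, j, Algebra.TensorProduct.lift_tmul, AlgHom.comp_apply,
          Algebra.TensorProduct.map_tmul, Algebra.TensorProduct.lmul'_apply_tmul, map_mul]
        simp [← mul_assoc]
  have hco := LinearMap.congr_fun (HopfRep.Comod.coassoc (k := k) (A := H) (V := A)) a
  simp only [LinearMap.coe_comp, Function.comp_apply, LinearEquiv.coe_coe] at hco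
  show diag k H A (Algebra.TensorProduct.map _ _ (GLin.coactAlgHom k H A a)) = _
  rw [hF, GLin.coactAlgHom_apply, hco]
  show _ = Algebra.TensorProduct.map _ _ (HopfRep.Comod.coact (k := k) (A := H) a) ⊗ₜ[k] (1 : H)
  generalize HopfRep.Comod.coact (k := k) (A := H) a = p
  induction p with
  | zero => simp
  | add p q hp hq => simp only [map_add, TensorProduct.add_tmul, hp, hq]
  | tmul e f =>
    simp only [LinearMap.lTensor_tmul, K, inA, j, Algebra.TensorProduct.lift_tmul, AlgHom.comp_apply]
    rw [mul_comul_antipode]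
    simp

variable (k H A) in
/-- Evaluation at the unit. -/
def evOne : A ⊗[k] H →ₐ[k] A :=
  (Algebra.TensorProduct.rid k k A).toAlgHom.comp
    (Algebra.TensorProduct.map (AlgHom.id k A) (Bialgebra.counitAlgHom k H))

theorem evOne_tw (a : A) : evOne k H A (tw k H A a) = a := by
  have hc := LinearMap.congr_fun (HopfRep.Comod.counit_comp (k := k) (A := H) (V := A)) a
  simp only [LinearMap.coe_comp, Function.comp_apply, LinearMap.flip_apply, TensorProduct.mk_apply] at hc
  have e : ∀ x : A ⊗[k] H, evOne k H A (Algebra.TensorProduct.map (AlgHom.id k A)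
      (HopfAlgebra.antipodeAlgHom k H) x) =
      TensorProduct.rid k A ((Coalgebra.counit (R := k) (A := H)).lTensor A x) := by
    intro x
    induction x with
    | zero => simp
    | add p q hp hq => simp only [map_add, hp, hq]
    | tmul b c => simp [evOne, HopfAlgebra.counit_antipode]
  rw [tw, AlgHom.comp_apply, GLin.coactAlgHom_apply, e, hc]
  simp

theorem finiteType_invariants [Algebra.FiniteType k H] (hG : HopfRep.IsLinearlyReductive k H) [IsNoetherianRing A] :
    Algebra.FiniteType ↥(GLin.invariants k H A) A := by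
  classical
  letI cT : HopfRep.Comod k H (A ⊗[k] H) :=
    ComodTens.Comod.tensor (inferInstanceAs (HopfRep.Comod k H A)) (HopfRep.Comod.regular (k := k) (A := H))
  have hco : ∀ x : A ⊗[k] H, HopfRep.Comod.coact (k := k) (A := H) x = diag k H A x := coact_tensor_eq
  haveI : GLin.IsCoactAlg k H (A ⊗[k] H) :=
    ⟨by rw [hco, map_one], fun f g => by rw [hco, hco, hco, map_mul]⟩
  let inc : A →ₐ[k] A ⊗[k] H := Algebra.TensorProduct.includeLeft
  let B₀ : Subalgebra k (A ⊗[k] H) := inc.range
  haveI : IsNoetherianRing B₀ :=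
    isNoetherianRing_of_surjective A _ inc.rangeRestrict.toRingHom inc.rangeRestrict_surjective
  obtain ⟨g, hg⟩ := (Algebra.FiniteType.out : (⊤ : Subalgebra k H).FG)
  haveI : Algebra.FiniteType B₀ (A ⊗[k] H) := ⟨⟨g.image fun h => (1 : A) ⊗ₜ[k] h, by
    refine eq_top_iff.2 fun x _ => ?_
    clear ‹x ∈ ⊤›
    induction x with
    | zero => exact Subalgebra.zero_mem _
    | add p q hp hq => exact Subalgebra.add_mem _ hp hq
    | tmul a h =>
      let T := Algebra.adjoin B₀ (↑(g.image fun h => (1 : A) ⊗ₜ[k] h) : Set (A ⊗[k] H))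
      have h1 : a ⊗ₜ[k] (1 : H) ∈ T := T.algebraMap_mem ⟨_, a, rfl⟩
      have h2 : (1 : A) ⊗ₜ[k] h ∈ T := by
        have : h ∈ (T.restrictScalars k).comap (Algebra.TensorProduct.includeRight : H →ₐ[k] A ⊗[k] H) := by
          refine (?_ : (⊤ : Subalgebra k H) ≤ _) Algebra.mem_top
          rw [← hg]
          exact Algebra.adjoin_le fun y hy => Algebra.subset_adjoin (Finset.mem_image_of_mem _ hy)
        exact this
      have h3 := T.mul_mem h1 h2
      rw [Algebra.TensorProduct.tmul_mul_tmul, mul_one, one_mul] at h3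
      exact h3⟩⟩
  have hB₀ : HopfRep.IsSubcomod (k := k) (A := H) (Subalgebra.toSubmodule B₀) := by
    rintro _ ⟨a, rfl⟩
    refine ⟨inc.rangeRestrict.toLinearMap.rTensor H (HopfRep.Comod.coact (k := k) (A := H) a), ?_⟩
    rw [hco]
    show _ = diag k H A (a ⊗ₜ[k] (1 : H))
    simp only [diag, Algebra.TensorProduct.lift_tmul, map_one, mul_one, AlgHom.comp_apply, GLin.coactAlgHom_apply]
    generalize HopfRep.Comod.coact (k := k) (A := H) a = p
    induction p with
    | zero => simp
    | add p q hp hq => simp only [map_add, hp, hq]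
    | tmul e f => simp [inc]
  obtain ⟨s, -, heq⟩ := Comodule.HilbertFG.exists_finset_invariants_eq_adjoin hG B₀ hB₀
  refine ⟨⟨s.image (evOne k H A), eq_top_iff.2 fun a _ => ?_⟩⟩
  let T := (Algebra.adjoin ↥(GLin.invariants k H A) (↑(s.image (evOne k H A)) : Set A)).restrictScalars k
  have hmem : tw k H A a ∈ GLin.invariants k H (A ⊗[k] H) :=
    (GLin.mem_invariants_iff _ _ _ _).2 ((hco _).trans (diag_tw a))
  rw [heq] at hmem
  have hle : Algebra.adjoin k (((B₀ : Set (A ⊗[k] H)) ∩ GLin.invariants k H (A ⊗[k] H)) ∪ ↑s) ≤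
      T.comap (evOne k H A) := by
    refine Algebra.adjoin_le ?_
    rintro x (⟨⟨b, rfl⟩, hb⟩ | hx)
    · have hb' : b ∈ GLin.invariants k H A := by
        have h := congrArg ((evOne k H A).toLinearMap.rTensor H)
          ((GLin.mem_invariants_iff k H (A ⊗[k] H) _).1 hb)
        rw [hco] at h
        change (evOne k H A).toLinearMap.rTensor H (diag k H A (b ⊗ₜ[k] (1 : H))) =
          (evOne k H A).toLinearMap.rTensor H ((b ⊗ₜ[k] (1 : H)) ⊗ₜ[k] (1 : H)) at h
        simp only [LinearMap.rTensor_tmul, diag, Algebra.TensorProduct.lift_tmul, map_one, mul_one, AlgHom.comp_apply, GLin.coactAlgHom_apply] at h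
        rw [GLin.mem_invariants_iff]
        refine Eq.trans ?_ (h.trans (by simp [evOne]))
        have key : ∀ p : A ⊗[k] H, (evOne k H A).toLinearMap.rTensor H
            (Algebra.TensorProduct.map (Algebra.TensorProduct.includeLeft : A →ₐ[k] A ⊗[k] H) (AlgHom.id k H) p) = p := fun p => by
          induction p with
          | zero => simp
          | add p q hp hq => simp only [map_add, hp, hq]
          | tmul e f => simp [evOne]
        exact (key _).symm
      show evOne k H A (b ⊗ₜ[k] (1 : H)) ∈ Algebra.adjoin _ _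
      have : evOne k H A (b ⊗ₜ[k] (1 : H)) = b := by simp [evOne]
      rw [this]
      exact Subalgebra.algebraMap_mem _ (⟨b, hb'⟩ : ↥(GLin.invariants k H A))
    · exact Algebra.subset_adjoin (Finset.mem_image_of_mem _ hx)
  have := hle hmem
  change evOne k H A (tw k H A a) ∈ T at this
  rw [evOne_tw] at this
  exact this

end Groth.Agent.LunaFTLib
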